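import Cfsg.Agent.H555.TwoSp.SpSeven
import Cfsg.Agent.Schreier.CoThreeCent
import Cfsg.Agent.KFacts.Co3D4.Model
import Cfsg.Agent.KFacts.Co3.Out
import Cfsg.Agent.CpAutCoFive.Core
import Cfsg.Agent.H836.Sylow

/-!
# Centralizers of elements of order 7, 11, 23 in `Co₃` (helper555)
-/

set_option autoImplicit false

namespace Cfsg.Agent.H555.TwoSp

open Subgroup

section abs

theorem map_centralizer {G H : Type*} [Group G] [Group H] (e : G ≃* H) (X : Subgroup G) :
    (centralizer (X : Set G)).map e.toMonoidHom = centralizer ((X.map e.toMonoidHom : Subgroup H) : Set H) := by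
  ext y
  constructor
  · rintro ⟨a, ha, rfl⟩
    rw [mem_centralizer_iff]
    rintro _ ⟨x, hx, rfl⟩
    change e x * e a = e a * e x
    rw [← map_mul, ← map_mul, mem_centralizer_iff.1 ha x hx]
  · intro hy
    refine ⟨e.symm y, ?_, e.apply_symm_apply y⟩
    rw [SetLike.mem_coe, mem_centralizer_iff]
    intro x hx
    apply e.injective
    rw [map_mul, map_mul, e.apply_symm_apply]
    exact mem_centralizer_iff.1 hy (e x) ⟨x, hx, rfl⟩

theorem card_map {G H : Type*} [Group G] [Group H] (e : G ≃* H) (X : Subgroup G) :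
    Nat.card (X.map e.toMonoidHom) = Nat.card X :=
  Nat.card_congr (X.equivMapOfInjective e.toMonoidHom e.injective).toEquiv.symm

theorem card_cent_map {G H : Type*} [Group G] [Group H] (e : G ≃* H) (X : Subgroup G) :
    Nat.card (centralizer (X : Set G)) = Nat.card (centralizer ((X.map e.toMonoidHom : Subgroup H) : Set H)) := by
  rw [← map_centralizer, card_map]

theorem card_cent_conj {G : Type*} [Group G] [Finite G] {p : ℕ} (hp : p.Prime) (h2 : ¬ p ^ 2 ∣ Nat.card G)
    {X Y : Subgroup G} (hX : Nat.card X = p) (hY : Nat.card Y = p) :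
    Nat.card (centralizer (X : Set G)) = Nat.card (centralizer (Y : Set G)) := by
  obtain ⟨g, rfl⟩ := Cfsg.Agent.H836.Sylow.conj_of_card hp h2 hX hY
  exact card_cent_map (MulAut.conj g) X

theorem mem_cent_zpowers {G : Type*} [Group G] {x y : G} :
    y ∈ centralizer ((zpowers x : Subgroup G) : Set G) ↔ y * x = x * y := by
  rw [mem_centralizer_iff]
  constructor
  · intro h
    exact (h x (mem_zpowers x)).symm
  · rintro h _ ⟨k, rfl⟩
    exact ((Commute.zpow_right (show Commute y x from h) k).eq).symm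

end abs

universe u
variable {T : Type u} [Group T]

theorem card_co3 (h : Cfsg.Spor.IsoCo3 T) : Nat.card T = 495766656000 := by
  obtain ⟨e⟩ := h
  obtain ⟨f⟩ := Cfsg.Agent.LeechPack.X552.isoCo3_G3
  rw [← Cfsg.Agent.LeechPack.X552.card_G3]
  exact Nat.card_congr (e.trans f.symm).toEquiv

theorem finite_co3 (h : Cfsg.Spor.IsoCo3 T) : Finite T :=
  Nat.finite_of_card_ne_zero (by rw [card_co3 h]; norm_num)

section A

open Cfsg.Agent.LeechPack.X552 Cfsg.Agent.Schreier.CoThreeCent Cfsg.Agent.Schreier.CoThreeGens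

theorem card_cent_gx : Nat.card (centralizer ((zpowers gx : Subgroup G3) : Set G3)) = 23 := by
  have h : centralizer ((zpowers gx : Subgroup G3) : Set G3) = zpowers gx := by
    apply le_antisymm
    · intro y hy
      exact mem_zpowers_gx (mem_cent_zpowers.1 hy)
    · intro y hy
      rw [mem_cent_zpowers]
      obtain ⟨k, rfl⟩ := hy
      exact ((Commute.refl gx).zpow_left k).eq
  rw [h, Nat.card_zpowers, orderOf_gx]

theorem orderOf_gy : orderOf gy = 11 := by
  have : Fact (Nat.Prime 11) := ⟨by norm_num⟩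
  refine orderOf_eq_prime gy_pow ?_
  intro h
  have h1 := gy_mul_gx
  rw [h, one_mul, mul_one] at h1
  have h2 : gx = 1 := by
    have h3 : gx * 1 = gx * gx := by rw [mul_one]; exact h1
    exact (mul_left_cancel h3).symm
  have h3 := orderOf_gx
  rw [h2, orderOf_one] at h3
  omega

theorem card_cent_gy : Nat.card (centralizer ((zpowers gy : Subgroup G3) : Set G3)) = 22 := by
  have hle : Nat.card (centralizer ((zpowers gy : Subgroup G3) : Set G3)) ≤ 22 := by
    let f : Fin 11 × Fin 2 → G3 := fun x => gy ^ (x.1 : ℕ) * gd ^ (x.2 : ℕ)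
    have hsub : ((centralizer ((zpowers gy : Subgroup G3) : Set G3) : Subgroup G3) : Set G3) ⊆ Set.range f := by
      intro y hy
      obtain ⟨k, hk⟩ := cent_gy (show Commute y gy from mem_cent_zpowers.1 hy)
      have hmod : gy ^ k = gy ^ (k % 11) := by rw [← orderOf_gy, pow_mod_orderOf]
      rcases hk with hk | hk
      · exact ⟨(⟨k % 11, Nat.mod_lt _ (by norm_num)⟩, 0), by
          change gy ^ (k % 11) * gd ^ 0 = y
          rw [pow_zero, mul_one, hk, hmod]⟩
      · exact ⟨(⟨k % 11, Nat.mod_lt _ (by norm_num)⟩, 1), by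
          change gy ^ (k % 11) * gd ^ 1 = y
          rw [pow_one, hk, hmod]⟩
    have h1 : Nat.card (centralizer ((zpowers gy : Subgroup G3) : Set G3)) ≤ (Set.range f).ncard :=
      Set.ncard_le_ncard hsub (Set.toFinite _)
    refine h1.trans ?_
    rw [← Set.image_univ]
    refine (Set.ncard_image_le (Set.toFinite _)).trans ?_
    rw [Set.ncard_univ, Nat.card_eq_fintype_card]
    decide
  have h11 : 11 ∣ Nat.card (centralizer ((zpowers gy : Subgroup G3) : Set G3)) := by
    have hm : gy ∈ centralizer ((zpowers gy : Subgroup G3) : Set G3) := mem_cent_zpowers.2 rfl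
    have h := orderOf_dvd_natCard (⟨gy, hm⟩ : centralizer ((zpowers gy : Subgroup G3) : Set G3))
    rwa [Subgroup.orderOf_mk, orderOf_gy] at h
  have h2 : 2 ∣ Nat.card (centralizer ((zpowers gy : Subgroup G3) : Set G3)) := by
    have hm : gd ∈ centralizer ((zpowers gy : Subgroup G3) : Set G3) := mem_cent_zpowers.2 gd_mul_gy
    have h := orderOf_dvd_natCard (⟨gd, hm⟩ : centralizer ((zpowers gy : Subgroup G3) : Set G3))
    have ho : orderOf gd = 2 := orderOf_eq_prime (by rw [pow_two]; exact gd_mul_gd) gd_ne_one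
    rwa [Subgroup.orderOf_mk, ho] at h
  have hpos : 0 < Nat.card (centralizer ((zpowers gy : Subgroup G3) : Set G3)) := Nat.card_pos
  omega

theorem c23 (h : Cfsg.Spor.IsoCo3 T) (P : Subgroup T) (hP : Nat.card P = 23) :
    Nat.card (centralizer (P : Set T)) = 23 := by
  obtain ⟨e⟩ := h
  obtain ⟨f⟩ := isoCo3_G3
  rw [card_cent_map (e.trans f.symm), card_cent_conj (p := 23) (by norm_num) (by rw [card_G3]; norm_num)
    (by rw [card_map, hP]) (Y := zpowers gx) (by rw [Nat.card_zpowers, orderOf_gx]), card_cent_gx]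

theorem c11 (h : Cfsg.Spor.IsoCo3 T) (P : Subgroup T) (hP : Nat.card P = 11) :
    Nat.card (centralizer (P : Set T)) = 22 := by
  obtain ⟨e⟩ := h
  obtain ⟨f⟩ := isoCo3_G3
  rw [card_cent_map (e.trans f.symm), card_cent_conj (p := 11) (by norm_num) (by rw [card_G3]; norm_num)
    (by rw [card_map, hP]) (Y := zpowers gy) (by rw [Nat.card_zpowers, orderOf_gy]), card_cent_gy]

end A

section B

open Cfsg.Agent.SporRec.TwoSp6.Sp (S)
open Cfsg.Agent.SporRec.TwoSp6.CInvol (NS)
open Cfsg.Agent.SporRec.Co3.Fusion (tC mem_cent)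
open Cfsg.Agent.SporRec.Co3.Chain (G3 isCo3_G3)
open Cfsg.Agent.SporRec.Co3.Ident (Z)

theorem finite_G3 : Finite G3 := Nat.finite_of_card_ne_zero (by rw [isCo3_G3.2]; norm_num)

theorem leechV_ne : Cfsg.Spor.leechV ≠ 0 := by
  intro h
  have h1 := congrArg (fun v : Cfsg.leechLattice => (v : Cfsg.GolayPt → ℤ) none) h
  change (-5 : ℤ) = 0 at h1
  norm_num at h1

theorem exists_inv_model : ∃ Z x0 : G3, Z * Z = 1 ∧ Z ≠ 1 ∧ Z * x0 = x0 * Z ∧ orderOf x0 = 7 ∧
    ∀ (p : G3) (n : ℕ), p * Z = Z * p → p * x0 = x0 * p → p ^ (2 ^ n) = 1 → p = 1 ∨ p = Z := by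
  have hfin := finite_G3
  obtain ⟨π, N⟩ := Cfsg.Agent.KFacts.Co3D4.exists_NS_G3
  have h7 : Fact (Nat.Prime 7) := ⟨by norm_num⟩
  -- an element of order seven of the quotient lifts
  have hd : 7 ∣ Nat.card (centralizer ({Z} : Set G3)) := by
    have h1 : Nat.card S ∣ Nat.card (centralizer ({Z} : Set G3)) := Subgroup.card_dvd_of_surjective π N.surj
    rw [Cfsg.Agent.SporRec.TwoSp6.Sp.card_S] at h1
    exact (by norm_num : (7 : ℕ) ∣ 1451520).trans h1
  obtain ⟨x, hx⟩ := exists_prime_orderOf_dvd_card' 7 hd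
  have hZ1 : (Z : G3) ≠ 1 := fun h => N.z_ne (Subtype.ext h)
  have hZ2 : (Z : G3) * Z = 1 := congrArg Subtype.val N.z_sq
  have hxo : orderOf (x : G3) = 7 := by rw [Subgroup.orderOf_coe, hx]
  have hpx : orderOf (π x) = 7 := by
    refine orderOf_eq_prime (by rw [← map_pow, ← hx, pow_orderOf_eq_one, map_one]) ?_
    intro h
    rcases N.ker x h with h' | h'
    · rw [h', orderOf_one] at hx; omega
    · have h3 : orderOf x = 2 := by
        rw [h']
        exact orderOf_eq_prime (by rw [pow_two]; exact N.z_sq) N.z_ne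
      omega
  refine ⟨Z, x, hZ2, hZ1, (mem_centralizer_singleton_iff.1 x.2).symm, hxo, fun p n hpZ hpx' hpn => ?_⟩
  have hpm : p ∈ centralizer ({Z} : Set G3) := mem_centralizer_singleton_iff.2 hpZ
  have hcom : π x * π ⟨p, hpm⟩ = π ⟨p, hpm⟩ * π x := by
    rw [← map_mul, ← map_mul]
    exact congrArg π (Subtype.ext hpx'.symm)
  have hpow : π ⟨p, hpm⟩ ^ (2 ^ n) = 1 := by
    rw [← map_pow]
    have : (⟨p, hpm⟩ : centralizer ({Z} : Set G3)) ^ (2 ^ n) = 1 := Subtype.ext hpn
    rw [this, map_one]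
  have key : ∀ n : ℕ, π ⟨p, hpm⟩ ^ (2 ^ n) = 1 → π ⟨p, hpm⟩ = 1 := by
    intro n
    induction n with
    | zero => intro h; rwa [pow_zero, pow_one] at h
    | succ n ih =>
      intro h
      apply ih
      refine SpSeven.no_inv hpx ?_ ?_
      · rw [← pow_add, ← two_mul, ← pow_succ', h]
      · exact ((show Commute (π x) (π ⟨p, hpm⟩) from hcom).pow_right _).eq
  rcases N.ker _ (key n hpow) with h' | h'
  · left; exact congrArg Subtype.val h'
  · right; exact congrArg Subtype.val h'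

theorem exists_inv (h : Cfsg.Spor.IsoCo3 T) : ∃ Z x0 : T, Z * Z = 1 ∧ Z ≠ 1 ∧ Z * x0 = x0 * Z ∧ orderOf x0 = 7 ∧
    ∀ (p : T) (n : ℕ), p * Z = Z * p → p * x0 = x0 * p → p ^ (2 ^ n) = 1 → p = 1 ∨ p = Z := by
  obtain ⟨e0⟩ := h
  let e : T ≃* G3 := e0.trans Cfsg.Agent.SporRec.Co3.Model.equivCo3.symm
  obtain ⟨Z, x, h1, h2, h3, h4, h5⟩ := exists_inv_model
  refine ⟨e.symm Z, e.symm x, ?_, ?_, ?_, ?_, ?_⟩
  · rw [← map_mul, h1, map_one]
  · intro h
    apply h2
    rw [← e.apply_symm_apply Z, h, map_one]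
  · rw [← map_mul, ← map_mul, h3]
  · rw [MulEquiv.orderOf_eq, h4]
  · intro p n hp1 hp2 hp3
    have h6 := h5 (e p) n (by
      have := congrArg e hp1
      rwa [map_mul, map_mul, e.apply_symm_apply] at this) (by
      have := congrArg e hp2
      rwa [map_mul, map_mul, e.apply_symm_apply] at this) (by rw [← map_pow, hp3, map_one])
    rcases h6 with h6 | h6
    · left; exact (MulEquiv.map_eq_one_iff e).1 h6
    · right; rw [← h6, e.symm_apply_apply]

theorem not_five_seven (h : Cfsg.Spor.IsoCo3 T) {w x : T} (hw : orderOf w = 5) (hx : orderOf x = 7) :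
    w * x ≠ x * w := by
  intro hc
  obtain ⟨e0⟩ := h
  let e : T ≃* G3 := e0.trans Cfsg.Agent.SporRec.Co3.Model.equivCo3.symm
  have hfin := finite_G3
  have hw' : orderOf (e w) = 5 := by rw [MulEquiv.orderOf_eq, hw]
  have hx' : orderOf (e x) = 7 := by rw [MulEquiv.orderOf_eq, hx]
  have hc' : e x * e w = e w * e x := by rw [← map_mul, ← map_mul, hc]
  have hwm : e w ∈ centralizer ({e w} : Set G3) := mem_centralizer_singleton_iff.2 rfl
  have hxm : e x ∈ centralizer ({e w} : Set G3) := mem_centralizer_singleton_iff.2 hc'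
  refine Cfsg.Agent.CpAutCoFive.not_prime (H := centralizer ({e w} : Set G3))
    (φ := (G3.subtype).comp (centralizer ({e w} : Set G3)).subtype)
    (v := Cfsg.Spor.leechV) (x := ⟨e w, hwm⟩) ?_ leechV_ne ?_ ?_ ?_
    (r := 7) (by norm_num) le_rfl ?_
  · exact (Subtype.val_injective).comp Subtype.val_injective
  · intro g
    exact g.1.2
  · rw [Subgroup.orderOf_mk]; exact hw'
  · intro g
    exact Subtype.ext (mem_centralizer_singleton_iff.1 g.2)
  · have h1 := orderOf_dvd_natCard (⟨e x, hxm⟩ : centralizer ({e w} : Set G3))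
    rwa [Subgroup.orderOf_mk, hx'] at h1

theorem range_conj (h : Cfsg.Spor.IsoCo3 T) : (MulAut.conj : T →* MulAut T).range = ⊤ := by
  obtain ⟨e0⟩ := h
  let e : T ≃* G3 := e0.trans Cfsg.Agent.SporRec.Co3.Model.equivCo3.symm
  rw [eq_top_iff]
  intro φ _
  obtain ⟨g, hg⟩ := Cfsg.Agent.KFacts.Co3.Out.range_conj.ge (mem_top (e.symm.trans (φ.trans e) : MulAut G3))
  refine ⟨e.symm g, ?_⟩
  ext x
  have h1 := DFunLike.congr_fun hg (e x)
  have h2 : (e.symm.trans (φ.trans e) : MulAut G3) (e x) = e (φ x) := by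
    change e (φ (e.symm (e x))) = e (φ x)
    rw [e.symm_apply_apply]
  rw [h2, MulAut.conj_apply] at h1
  apply e.injective
  rw [MulAut.conj_apply, map_mul, map_mul, map_inv, e.apply_symm_apply]
  exact h1

end B

end Cfsg.Agent.H555.TwoSp
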