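import Cfsg.Agent.SporRec.TwoSp6.Sp

/-!
# No involution of `Sp₆(2)` commutes with an element of order seven (helper555)
-/

set_option autoImplicit false

namespace Cfsg.Agent.H555.TwoSp.SpSeven

open Subgroup Cfsg.Agent.SporRec.TwoSp6.Sp

/-- the nonzero vectors -/
abbrev X := {v : V // v ≠ 0}

theorem act_zero (g : S) : act g 0 = 0 := by
  have h := act_add g 0 0
  rw [add_zero] at h
  have h2 : act g 0 + 0 = act g 0 + act g 0 := by rw [add_zero]; exact h
  exact (add_left_cancel h2).symm

theorem act_inv (g : S) (v : V) : act g⁻¹ (act g v) = v := by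
  rw [← act_mul, inv_mul_cancel, act_one]

theorem act_ne {g : S} {v : V} (hv : v ≠ 0) : act g v ≠ 0 := by
  intro h
  apply hv
  rw [← act_inv g v, h, act_zero]

/-- the action on the nonzero vectors -/
@[reducible] def actX : MulAction S X where
  smul g v := ⟨act g v.1, act_ne v.2⟩
  one_smul v := Subtype.ext (act_one v.1)
  mul_smul g h v := Subtype.ext (act_mul g h v.1)

theorem card_V : Nat.card V = 64 := by
  rw [Nat.card_eq_fintype_card]; decide +kernel

theorem card_X : Nat.card X = 63 := by
  rw [Nat.card_eq_fintype_card, Fintype.card_subtype_compl, Fintype.card_subtype_eq, ← Nat.card_eq_fintype_card,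
    card_V]

/-- an element of order seven fixes no nonzero vector -/
theorem fix_zero {g : S} (hg : orderOf g = 7) {u : V} (hu : act g u = u) : u = 0 := by
  by_contra hne
  let _ : MulAction S X := actX
  have htr : MulAction.IsPretransitive S X := ⟨fun a b => by
    obtain ⟨s, hs⟩ := exists_act a.2 b.2
    exact ⟨s, Subtype.ext hs⟩⟩
  have h1 := MulAction.index_stabilizer_of_transitive S (⟨u, hne⟩ : X)
  have h2 := Subgroup.index_mul_card (MulAction.stabilizer S (⟨u, hne⟩ : X))
  rw [h1, card_X, card_S] at h2
  have h3 : g ∈ MulAction.stabilizer S (⟨u, hne⟩ : X) := by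
    rw [MulAction.mem_stabilizer_iff]
    exact Subtype.ext hu
  have h4 : orderOf (⟨g, h3⟩ : MulAction.stabilizer S (⟨u, hne⟩ : X)) ∣ _ := orderOf_dvd_natCard _
  rw [Subgroup.orderOf_mk, hg] at h4
  have h5 : Nat.card (MulAction.stabilizer S (⟨u, hne⟩ : X)) = 23040 := by omega
  rw [h5] at h4
  omega

/-- the additive map -/
def na (g : S) : V →+ V := AddMonoidHom.mk' (act g) (act_add g)

theorem na_apply (g : S) (v : V) : na g v = act g v := rfl

theorem act_iter (g : S) (n : ℕ) (v : V) : (act g)^[n] v = act (g ^ n) v := by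
  induction n generalizing v with
  | zero => rw [pow_zero, act_one]; rfl
  | succ n ih => rw [Function.iterate_succ_apply, ih, pow_succ, act_mul]

theorem na_seven {g : S} (hg : orderOf g = 7) (v : V) : na g (na g (na g (na g (na g (na g (na g v)))))) = v := by
  have h7 : g ^ 7 = 1 := by rw [← hg, pow_orderOf_eq_one]
  have h := act_iter g 7 v
  rw [h7, act_one] at h
  exact h

/-- `x³ + x + 1` -/
def opA (g : S) : V →+ V := (na g).comp ((na g).comp (na g)) + na g + AddMonoidHom.id V

/-- `x³ + x² + 1` -/
def opB (g : S) : V →+ V := (na g).comp ((na g).comp (na g)) + (na g).comp (na g) + AddMonoidHom.id V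

theorem opA_apply (g : S) (v : V) : opA g v = na g (na g (na g v)) + na g v + v := rfl

theorem opB_apply (g : S) (v : V) : opB g v = na g (na g (na g v)) + na g (na g v) + v := rfl

theorem add_self' (v : V) : v + v = 0 := add_self v

theorem cancel (a b : V) : a + (a + b) = b := by
  rw [← add_assoc, add_self', zero_add]

section

variable {g : S} (hg : orderOf g = 7)
include hg

theorem na_fix {u : V} (hu : na g u = u) : u = 0 := fix_zero hg hu

theorem sum_zero (v : V) : na g (na g (na g (na g (na g (na g v))))) + na g (na g (na g (na g (na g v)))) +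
    na g (na g (na g (na g v))) + na g (na g (na g v)) + na g (na g v) + na g v + v = 0 := by
  apply na_fix hg
  simp only [map_add]
  rw [na_seven hg]
  abel

theorem AB (v : V) : opA g (opB g v) = 0 := by
  rw [← sum_zero hg v]
  simp only [opA_apply, opB_apply, map_add]
  have h := add_self' (na g (na g (na g v)))
  generalize na g (na g (na g (na g (na g (na g v))))) = a6 at *
  generalize na g (na g (na g (na g (na g v)))) = a5 at *
  generalize na g (na g (na g (na g v))) = a4 at *
  generalize na g (na g (na g v)) = a3 at *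
  generalize na g (na g v) = a2 at *
  generalize na g v = a1 at *
  have e : a6 + a4 + a3 + (a5 + a3 + a2) + (a3 + a1 + v) = a6 + a5 + a4 + a3 + a2 + a1 + v + (a3 + a3) := by abel
  rw [e, h, add_zero]

theorem BA (v : V) : opB g (opA g v) = 0 := by
  rw [← sum_zero hg v]
  simp only [opA_apply, opB_apply, map_add]
  have h := add_self' (na g (na g (na g v)))
  generalize na g (na g (na g (na g (na g (na g v))))) = a6 at *
  generalize na g (na g (na g (na g (na g v)))) = a5 at *
  generalize na g (na g (na g (na g v))) = a4 at *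
  generalize na g (na g (na g v)) = a3 at *
  generalize na g (na g v) = a2 at *
  generalize na g v = a1 at *
  have e : a6 + a5 + a3 + (a4 + a3 + a1) + (a3 + a2 + v) = a6 + a5 + a4 + a3 + a2 + a1 + v + (a3 + a3) := by abel
  rw [e, h, add_zero]

end

/-- Bezout -/
theorem bezout (g : S) (v : V) : v = na g (opA g v) + (na g (opB g v) + opB g v) := by
  simp only [opA_apply, opB_apply, map_add]
  have h4 := add_self' (na g (na g (na g (na g v))))
  have h3 := add_self' (na g (na g (na g v)))
  have h2 := add_self' (na g (na g v))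
  have h1 := add_self' (na g v)
  generalize na g (na g (na g (na g v))) = a4 at *
  generalize na g (na g (na g v)) = a3 at *
  generalize na g (na g v) = a2 at *
  generalize na g v = a1 at *
  have e : a4 + a2 + a1 + (a4 + a3 + a1 + (a3 + a2 + v)) = v + (a4 + a4) + (a3 + a3) + (a2 + a2) + (a1 + a1) := by abel
  rw [e, h4, h3, h2, h1]
  simp

/-- fixed points of a map with `f⁷ = 1` -/
theorem card_modEq {α : Type*} [Finite α] {f : α → α} (hf : ∀ a, f (f (f (f (f (f (f a)))))) = a) :
    Nat.card α ≡ Nat.card {a // f a = a} [MOD 7] := by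
  classical
  let _ : Fintype α := Fintype.ofFinite α
  have : Fact (Nat.Prime 7) := ⟨by norm_num⟩
  let F : Function.End α := f
  have h1 : F ^ 7 ^ 1 = 1 := by
    funext a
    exact hf a
  have h2 := Equiv.Perm.card_fixedPoints_modEq h1
  rw [← Nat.card_eq_fintype_card, ← Nat.card_eq_fintype_card] at h2
  exact h2

section

variable {g : S} (hg : orderOf g = 7)
include hg

/-- the order of an invariant subgroup -/
theorem card_inv (W : AddSubgroup V) (hW : ∀ w ∈ W, na g w ∈ W) : Nat.card W = 1 ∨ Nat.card W = 8 ∨ Nat.card W = 64 := by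
  have h1 := card_modEq (α := W) (f := fun w => ⟨na g w, hW w w.2⟩) (fun w => Subtype.ext (na_seven hg w))
  have h2 : Nat.card {w : W // (⟨na g w, hW w w.2⟩ : W) = w} = 1 := by
    rw [Nat.card_eq_one_iff_unique]
    refine ⟨⟨fun a b => ?_⟩, ⟨⟨0, Subtype.ext (map_zero _)⟩⟩⟩
    have ha : (a.1 : V) = 0 := na_fix hg (congrArg Subtype.val a.2)
    have hb : (b.1 : V) = 0 := na_fix hg (congrArg Subtype.val b.2)
    exact Subtype.ext (Subtype.ext (ha.trans hb.symm))
  rw [h2] at h1
  have h3 : Nat.card W ∣ 2 ^ 6 := by
    have h4 := AddSubgroup.card_addSubgroup_dvd_card W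
    rw [card_V] at h4
    exact h4
  obtain ⟨k, hk, hk2⟩ := (Nat.dvd_prime_pow Nat.prime_two).1 h3
  rw [hk2] at h1 ⊢
  interval_cases k <;> revert h1 <;> decide

theorem eq_top_of_card {W : AddSubgroup V} (h : Nat.card W = 64) (v : V) : v ∈ W := by
  have h1 : W = ⊤ := AddSubgroup.eq_top_of_card_eq W (by rw [h, card_V])
  rw [h1]; exact AddSubgroup.mem_top v

theorem A_mem (v : V) (hv : opA g v = 0) : opA g (na g v) = 0 := by
  have h : opA g (na g v) = na g (opA g v) := by
    simp only [opA_apply, map_add]
  rw [h, hv, map_zero]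

theorem B_mem (v : V) (hv : opB g v = 0) : opB g (na g v) = 0 := by
  have h : opB g (na g v) = na g (opB g v) := by
    simp only [opB_apply, map_add]
  rw [h, hv, map_zero]

theorem exists_ne : ∃ v : V, v ≠ 0 := by
  by_contra hcon
  push Not at hcon
  have h1 : g = 1 := act_ext fun v => by rw [hcon v, act_zero, act_one]
  rw [h1, orderOf_one] at hg
  omega

theorem om_na (u v : V) : om (na g u) (na g v) = om u v := act_om g u v

/-- `A ≠ 0` -/
theorem not_A (h : ∀ v, opA g v = 0) : False := by
  obtain ⟨v, hv⟩ := exists_ne hg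
  have key : ∀ v', opB g v' = 0 := by
    intro v'
    by_contra hne
    obtain ⟨a, ha⟩ := exists_om_one hne
    have h1 : om (opA g a) (na g (na g (na g v'))) = om (opB g v') a := by
      rw [opA_apply, opB_apply, om_add', om_add', om_add', om_add', om_na hg, om_na hg, om_na hg, om_na hg,
        om_symm _ a, om_symm _ a, om_symm _ a]
      abel
    rw [ha, h a] at h1
    have h2 : om (0 : V) (na g (na g (na g v'))) = 0 := by
      have h3 := om_add' 0 0 (na g (na g (na g v')))
      rw [add_zero] at h3
      exact (left_eq_add.mp h3)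
    rw [h2] at h1
    exact absurd h1 (by decide)
  have h5 := bezout g v
  rw [h v, key v, map_zero, add_zero, add_zero] at h5
  exact hv h5

/-- `B ≠ 0` -/
theorem not_B (h : ∀ v, opB g v = 0) : False := by
  obtain ⟨v, hv⟩ := exists_ne hg
  have key : ∀ v', opA g v' = 0 := by
    intro v'
    by_contra hne
    obtain ⟨a, ha⟩ := exists_om_one hne
    have h1 : om (opB g a) (na g (na g (na g v'))) = om (opA g v') a := by
      rw [opA_apply, opB_apply, om_add', om_add', om_add', om_add', om_na hg, om_na hg, om_na hg, om_na hg,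
        om_na hg, om_symm _ a, om_symm _ a, om_symm _ a]
      abel
    rw [ha, h a] at h1
    have h2 : om (0 : V) (na g (na g (na g v'))) = 0 := by
      have h3 := om_add' 0 0 (na g (na g (na g v')))
      rw [add_zero] at h3
      exact (left_eq_add.mp h3)
    rw [h2] at h1
    exact absurd h1 (by decide)
  exact not_A hg key

/-- the commuting involution is trivial on an invariant subgroup of order 1 or 8 -/
theorem triv {h : S} (hh : h * h = 1) (hc : g * h = h * g) (W : AddSubgroup V) (hW : ∀ w ∈ W, na g w ∈ W)
    (hW2 : ∀ w ∈ W, na h w ∈ W) (h64 : Nat.card W ≠ 64) : ∀ w ∈ W, na h w = w := by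
  have hcv : ∀ v, na g (na h v) = na h (na g v) := by
    intro v
    rw [na_apply, na_apply, na_apply, na_apply, ← act_mul, ← act_mul, hc]
  have hhv : ∀ v, na h (na h v) = v := by
    intro v
    rw [na_apply, na_apply, ← act_mul, hh, act_one]
  let W' : AddSubgroup V :=
    { carrier := {w | w ∈ W ∧ na h w = w}
      add_mem' := fun {a b} ha hb => ⟨W.add_mem ha.1 hb.1, by rw [map_add, ha.2, hb.2]⟩
      zero_mem' := ⟨W.zero_mem, map_zero _⟩
      neg_mem' := fun {a} ha => ⟨W.neg_mem ha.1, by rw [map_neg, ha.2]⟩ }
  have hW'W : W' ≤ W := fun w hw => hw.1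
  have hW'g : ∀ w ∈ W', na g w ∈ W' := fun w hw => ⟨hW w hw.1, by rw [← hcv, hw.2]⟩
  have hle : Nat.card W' ≤ Nat.card W := AddSubgroup.card_le_of_le hW'W
  intro w hw
  by_cases hw0 : w = 0
  · rw [hw0, map_zero]
  have hne : Nat.card W' ≠ 1 := by
    intro h1
    have h2 : W' = ⊥ := AddSubgroup.card_eq_one.mp h1
    have h3 : ∀ u ∈ W, na h u = u := by
      intro u hu
      have h4 : u + na h u ∈ W' := ⟨W.add_mem hu (hW2 u hu), by rw [map_add, hhv, add_comm]⟩
      rw [h2, AddSubgroup.mem_bot] at h4
      have h5 := cancel u (na h u)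
      rw [h4, add_zero] at h5
      exact h5.symm
    have h6 : w ∈ W' := ⟨hw, h3 w hw⟩
    rw [h2, AddSubgroup.mem_bot] at h6
    exact hw0 h6
  have h8 : Nat.card W' = Nat.card W := by
    rcases card_inv hg W hW with h | h | h <;> rcases card_inv hg W' hW'g with h' | h' | h' <;> omega
  have h9 : W' = W := AddSubgroup.eq_of_le_of_card_ge hW'W (by omega)
  rw [← h9] at hw
  exact hw.2

/-- **No involution commutes with an element of order seven.** -/
theorem no_inv {h : S} (hh : h * h = 1) (hc : g * h = h * g) : h = 1 := by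
  have hcv : ∀ v, na g (na h v) = na h (na g v) := by
    intro v
    rw [na_apply, na_apply, na_apply, na_apply, ← act_mul, ← act_mul, hc]
  have hA : ∀ w ∈ (opA g).ker, na h w = w := by
    refine triv hg hh hc _ (fun w hw => A_mem hg w hw) (fun w hw => ?_) (fun h64 => ?_)
    · have h1 : opA g w = 0 := hw
      change opA g (na h w) = 0
      rw [opA_apply] at h1 ⊢
      rw [hcv, hcv, hcv, ← map_add, ← map_add, h1, map_zero]
    · exact not_A hg fun v => eq_top_of_card hg h64 v
  have hB : ∀ w ∈ (opB g).ker, na h w = w := by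
    refine triv hg hh hc _ (fun w hw => B_mem hg w hw) (fun w hw => ?_) (fun h64 => ?_)
    · have h1 : opB g w = 0 := hw
      change opB g (na h w) = 0
      rw [opB_apply] at h1 ⊢
      rw [hcv, hcv, hcv, ← map_add, ← map_add, h1, map_zero]
    · exact not_B hg fun v => eq_top_of_card hg h64 v
  apply act_ext
  intro v
  rw [act_one]
  change na h v = v
  have h1 := bezout g v
  have h2 : na g (opA g v) ∈ (opB g).ker := B_mem hg _ (BA hg v)
  have h3 : na g (opB g v) + opB g v ∈ (opA g).ker := by
    have h4 : opB g v ∈ (opA g).ker := AB hg v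
    exact (opA g).ker.add_mem (A_mem hg _ h4) h4
  rw [h1, map_add, hB _ h2, hA _ h3]

end

end Cfsg.Agent.H555.TwoSp.SpSeven
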