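import Cfsg.Agent.H555.TwoSp.CoThreeFacts

/-!
# `|C(P)| = 7 · 2 · 3ᵇ` for the subgroups of order seven in `Co₃` (helper555)
-/

set_option autoImplicit false

namespace Cfsg.Agent.H555.TwoSp

open Subgroup

universe u
variable {T : Type u} [Group T]

/-- a number with given prime factors -/
theorem eq_of_factors {n : ℕ} (hN : n ∣ 7 * (2 ^ 10 * 3 ^ 7 * 5 ^ 3 * 11 * 23)) (h7 : 7 ∣ n) (h2 : 2 ∣ n) (h4 : ¬ 4 ∣ n)
    (h5 : ¬ 5 ∣ n) (h11 : ¬ 11 ∣ n) (h23 : ¬ 23 ∣ n) : ∃ b, b ≤ 7 ∧ n = 7 * (2 * 3 ^ b) := by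
  obtain ⟨m, rfl⟩ := h7
  have h1 : m ∣ 2 ^ 10 * 3 ^ 7 * 5 ^ 3 * 11 * 23 := Nat.dvd_of_mul_dvd_mul_left (by norm_num) hN
  have h2' : 2 ∣ m := (Nat.Coprime.dvd_mul_left (by norm_num : Nat.Coprime 2 7)).1 h2
  obtain ⟨k, rfl⟩ := h2'
  have hk2 : ¬ 2 ∣ k := by
    rintro ⟨l, rfl⟩
    exact h4 ⟨7 * l, by ring⟩
  have c : ∀ r : ℕ, r.Prime → ¬ r ∣ 7 * (2 * k) → k.Coprime r := by
    intro r hr h
    rw [Nat.coprime_comm, hr.coprime_iff_not_dvd]
    rintro ⟨l, rfl⟩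
    exact h ⟨7 * (2 * l), by ring⟩
  have hk2' : k.Coprime 2 := by
    rw [Nat.coprime_comm, Nat.prime_two.coprime_iff_not_dvd]; exact hk2
  have e1 : k ∣ 2 ^ 10 * 3 ^ 7 * 5 ^ 3 * 11 * 23 := (Dvd.intro_left 2 rfl).trans h1
  have e2 := (c 23 (by norm_num) h23).dvd_of_dvd_mul_right e1
  have e3 := (c 11 (by norm_num) h11).dvd_of_dvd_mul_right e2
  have e4 := ((c 5 (by norm_num) h5).pow_right 3).dvd_of_dvd_mul_right e3
  have e5 := (hk2'.pow_right 10).dvd_of_dvd_mul_left e4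
  obtain ⟨b, hb, rfl⟩ := (Nat.dvd_prime_pow Nat.prime_three).1 e5
  exact ⟨b, hb, rfl⟩

theorem c7 (h : Cfsg.Spor.IsoCo3 T) : ∃ b, b ≤ 7 ∧ ∀ P : Subgroup T, Nat.card P = 7 →
    Nat.card (centralizer (P : Set T)) = 7 * (2 * 3 ^ b) := by
  have hfin := finite_co3 h
  have hcard := card_co3 h
  obtain ⟨Z, x, hZ2, hZ1, hZx, hx, hp⟩ := exists_inv h
  have hp2 : Fact (Nat.Prime 2) := ⟨Nat.prime_two⟩
  set C : Subgroup T := centralizer ((zpowers x : Subgroup T) : Set T) with hC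
  have mC : ∀ y, y ∈ C ↔ y * x = x * y := fun y => mem_cent_zpowers
  have hxC : x ∈ C := (mC x).2 rfl
  have hZC : Z ∈ C := (mC Z).2 hZx
  have hZo : orderOf Z = 2 := orderOf_eq_prime (by rw [pow_two]; exact hZ2) hZ1
  have h7 : 7 ∣ Nat.card C := by
    have h1 := orderOf_dvd_natCard (⟨x, hxC⟩ : C)
    rwa [Subgroup.orderOf_mk, hx] at h1
  have h2 : 2 ∣ Nat.card C := by
    have h1 := orderOf_dvd_natCard (⟨Z, hZC⟩ : C)
    rwa [Subgroup.orderOf_mk, hZo] at h1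
  have hprime : ∀ r : ℕ, r.Prime → (∀ w : T, orderOf w = r → w * x ≠ x * w) → ¬ r ∣ Nat.card C := by
    intro r hr hw hd
    have : Fact r.Prime := ⟨hr⟩
    obtain ⟨w, hw'⟩ := exists_prime_orderOf_dvd_card' r hd
    exact hw w (by rw [Subgroup.orderOf_coe, hw']) ((mC w).1 w.2)
  have h5 : ¬ 5 ∣ Nat.card C := hprime 5 (by norm_num) fun w hw => not_five_seven h hw hx
  have hbig : ∀ (r c : ℕ), r.Prime → (∀ P : Subgroup T, Nat.card P = r → Nat.card (centralizer (P : Set T)) = c) →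
      ¬ 7 ∣ c → ¬ r ∣ Nat.card C := by
    intro r c hr hc h7c
    refine hprime r hr fun w hw hwx => h7c ?_
    rw [← hc (zpowers w) (by rw [Nat.card_zpowers, hw])]
    have hm : x ∈ centralizer ((zpowers w : Subgroup T) : Set T) := mem_cent_zpowers.2 hwx.symm
    have h1 := orderOf_dvd_natCard (⟨x, hm⟩ : centralizer ((zpowers w : Subgroup T) : Set T))
    rwa [Subgroup.orderOf_mk, hx] at h1
  have h11 : ¬ 11 ∣ Nat.card C := hbig 11 22 (by norm_num) (c11 h) (by norm_num)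
  have h23 : ¬ 23 ∣ Nat.card C := hbig 23 23 (by norm_num) (c23 h) (by norm_num)
  have h4 : ¬ 4 ∣ Nat.card C := by
    intro h4
    have hZp : IsPGroup 2 (zpowers (⟨Z, hZC⟩ : C)) := by
      refine IsPGroup.of_card (n := 1) ?_
      rw [Nat.card_zpowers, Subgroup.orderOf_mk, hZo, pow_one]
    obtain ⟨Q, hQ⟩ := hZp.exists_le_sylow
    have hZQ : (⟨Z, hZC⟩ : C) ∈ (Q : Subgroup C) := hQ (mem_zpowers _)
    have hQ4 : 2 ^ 2 ∣ Nat.card (Q : Subgroup C) := Q.pow_dvd_card_of_pow_dvd_card (by exact h4)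
    have hQn : Nontrivial (Q : Subgroup C) := by
      refine ⟨⟨⟨_, hZQ⟩, 1, fun h => hZ1 ?_⟩⟩
      exact congrArg (fun y : (Q : Subgroup C) => ((y : C) : T)) h
    have hpow : ∀ q : (Q : Subgroup C), ∃ n : ℕ, ((q : C) : T) ^ (2 ^ n) = 1 := by
      intro q
      obtain ⟨n, hn⟩ := Q.2 q
      exact ⟨n, congrArg (fun y : (Q : Subgroup C) => ((y : C) : T)) hn⟩
    have hcn : Nontrivial (center (Q : Subgroup C)) := Q.2.center_nontrivial
    obtain ⟨⟨z, hz⟩, hz1⟩ := exists_ne (1 : center (Q : Subgroup C))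
    have hz1' : ((z : C) : T) ≠ 1 := fun h => hz1 (Subtype.ext (Subtype.ext (Subtype.ext h)))
    obtain ⟨n, hn⟩ := hpow z
    have hzZ : ((z : C) : T) * Z = Z * ((z : C) : T) :=
      (congrArg (fun y : (Q : Subgroup C) => ((y : C) : T)) (mem_center_iff.1 hz ⟨_, hZQ⟩)).symm
    have hzeq : ((z : C) : T) = Z := by
      rcases hp _ n hzZ ((mC _).1 (z : C).2) hn with h' | h'
      · exact absurd h' hz1'
      · exact h'
    have hall : ∀ q : (Q : Subgroup C), ((q : C) : T) = 1 ∨ ((q : C) : T) = Z := by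
      intro q
      obtain ⟨m, hm⟩ := hpow q
      refine hp _ m ?_ ((mC _).1 (q : C).2) hm
      have h1 := congrArg (fun y : (Q : Subgroup C) => ((y : C) : T)) (mem_center_iff.1 hz q)
      have h2 : ((q : C) : T) * ((z : C) : T) = ((z : C) : T) * ((q : C) : T) := h1
      rwa [hzeq] at h2
    have hle : Nat.card (Q : Subgroup C) ≤ 2 := by
      let f : ↥(Q : Subgroup C) → ({1, Z} : Set T) := fun q => ⟨((q : C) : T), hall q⟩
      have hf : Function.Injective f := by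
        intro a b hab
        have h3 : ((a : C) : T) = ((b : C) : T) := congrArg (fun y : ({1, Z} : Set T) => (y : T)) hab
        exact Subtype.ext (Subtype.ext h3)
      refine (Nat.card_le_card_of_injective f hf).trans ?_
      rw [Nat.card_coe_set_eq]
      exact (Set.ncard_insert_le 1 {Z}).trans (by rw [Set.ncard_singleton])
    have hpos : 0 < Nat.card (Q : Subgroup C) := Nat.card_pos
    have := Nat.le_of_dvd hpos hQ4
    omega
  have hd : Nat.card C ∣ 7 * (2 ^ 10 * 3 ^ 7 * 5 ^ 3 * 11 * 23) := by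
    have h1 := card_subgroup_dvd_card C
    rw [hcard] at h1
    norm_num
    exact h1
  obtain ⟨b, hb, hb2⟩ := eq_of_factors hd h7 h2 h4 h5 h11 h23
  refine ⟨b, hb, fun P hP => ?_⟩
  rw [← hb2]
  exact card_cent_conj (p := 7) (by norm_num) (by rw [hcard]; norm_num) hP (by rw [Nat.card_zpowers, hx])

/-- the normalizers -/
theorem n23 (h : Cfsg.Spor.IsoCo3 T) (P : Subgroup T) (hP : Nat.card P = 23) :
    Nat.card (normalizer (P : Set T)) = 23 * 11 := by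
  have hfin := finite_co3 h
  have hcard := card_co3 h
  obtain ⟨n, k, hn, hk, h1, h2⟩ := Cfsg.Agent.H836.Sylow.card_normalizer (p := 23) (by norm_num)
    (by rw [hcard]; norm_num) hP
  rw [c23 h P hP] at h1 h2
  rw [hcard] at h1
  rw [h2]
  have hk' : k ∣ 22 := hk
  have hk2 : k ≤ 22 := Nat.le_of_dvd (by norm_num) hk'
  interval_cases k <;> omega

theorem n11 (h : Cfsg.Spor.IsoCo3 T) (P : Subgroup T) (hP : Nat.card P = 11) :
    Nat.card (normalizer (P : Set T)) = 110 := by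
  have hfin := finite_co3 h
  have hcard := card_co3 h
  obtain ⟨n, k, hn, hk, h1, h2⟩ := Cfsg.Agent.H836.Sylow.card_normalizer (p := 11) (by norm_num)
    (by rw [hcard]; norm_num) hP
  rw [c11 h P hP] at h1 h2
  rw [hcard] at h1
  rw [h2]
  have hk' : k ∣ 10 := hk
  have hk2 : k ≤ 10 := Nat.le_of_dvd (by norm_num) hk'
  interval_cases k <;> omega

/-- the centralizer and the normalizer of the subgroups of order seven -/
theorem cn7 (h : Cfsg.Spor.IsoCo3 T) : ∃ k m : ℕ, ((k = 6 ∧ m = 36) ∨ (k = 18 ∧ m = 36) ∨ (k = 54 ∧ m = 162) ∨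
    (k = 162 ∧ m = 162)) ∧ ∀ P : Subgroup T, Nat.card P = 7 →
    Nat.card (centralizer (P : Set T)) = 7 * k ∧ Nat.card (normalizer (P : Set T)) = 7 * m := by
  have hfin := finite_co3 h
  have hcard := card_co3 h
  obtain ⟨b, hb, hb2⟩ := c7 h
  -- some subgroup of order seven
  have key : ∀ P : Subgroup T, Nat.card P = 7 → ∃ k, k ∣ 6 ∧ Nat.card (normalizer (P : Set T)) = 7 * (2 * 3 ^ b * k) ∧
      ((b = 1 ∧ k = 6) ∨ (b = 2 ∧ k = 2) ∨ (b = 3 ∧ k = 3) ∨ (b = 4 ∧ k = 1)) := by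
    intro P hP
    obtain ⟨n, k, hn, hk, h1, h2⟩ := Cfsg.Agent.H836.Sylow.card_normalizer (p := 7) (by norm_num)
      (by rw [hcard]; norm_num) hP
    rw [hb2 P hP] at h1 h2
    rw [hcard] at h1
    refine ⟨k, hk, by rw [h2]; ring, ?_⟩
    have hk' : k ∣ 6 := hk
    have hk2 : k ≤ 6 := Nat.le_of_dvd (by norm_num) hk'
    interval_cases b <;> interval_cases k <;> omega
  obtain ⟨x, hx⟩ : ∃ x : T, orderOf x = 7 := by
    have : Fact (Nat.Prime 7) := ⟨by norm_num⟩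
    exact exists_prime_orderOf_dvd_card' 7 (by rw [hcard]; norm_num)
  obtain ⟨k, hk, hk2, hk3⟩ := key (zpowers x) (by rw [Nat.card_zpowers, hx])
  refine ⟨2 * 3 ^ b, 2 * 3 ^ b * k, ?_, fun P hP => ⟨hb2 P hP, ?_⟩⟩
  · rcases hk3 with ⟨rfl, rfl⟩ | ⟨rfl, rfl⟩ | ⟨rfl, rfl⟩ | ⟨rfl, rfl⟩ <;> norm_num
  · obtain ⟨k', -, hk2', hk3'⟩ := key P hP
    have : k = k' := by omega
    rw [this, hk2']

end Cfsg.Agent.H555.TwoSp
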