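import Cfsg.Agent.H555.TwoSp.CoThreeSeven
import Cfsg.Agent.H970.TwoSporBase
import Cfsg.Agent.CpAutJ4.Eleven

/-!
# HUB H1, part P11, the row `Co₃` (helper555)
-/

set_option autoImplicit false

namespace Cfsg.Agent.H555.TwoSp

open Subgroup Cfsg.Agent.H384.TwoTrans Cfsg.Agent.H970.StabNum Cfsg.Agent.H970.TwoSpor

universe u v

/-- the factorization of `|M₂₄|` -/
def fM24 : List (ℕ × ℕ) := [(2, 10), (3, 3), (5, 1), (7, 1), (11, 1), (23, 1)]

def tM24 : List ℕ := [60, 168, 360, 504, 660, 2520, 6048, 6072, 7920, 20160, 95040, 443520, 10200960, 244823040]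

/-- the numerical check -/
def chkM (n : ℕ) (tbl : List ℕ) : Bool :=
  (11 :: tbl).all fun s => (List.range 11).all fun c => (List.range 11).all fun D =>
    !(Nat.blt 0 c && (Nat.blt 0 D && (10 % (c * D) == 0 && (n % (s * c) == 0 &&
      [2, 3, 5].all (okr 11 (n / c / s) D))))) || (s == n && c == 1)

theorem chkM_ok : chkM 244823040 tM24 = true := by decide +kernel

theorem candM : (OrdDiv.cands fM24 244823040).filter (fun g => OrdDiv.ordN g == 244823040) = [OrdDiv.Grp.m24] := by
  decide +kernel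

theorem okr_of {p a D r : ℕ} (hr : r.Prime) (ha0 : a ≠ 0) (ha : a < 2 ^ 80) (hD : D ≠ 0) (hD2 : D < 256) {j : ℕ}
    (hj : r ^ j ∣ D) (hj2 : r ^ a.factorization r ≡ r ^ j [MOD p]) : okr p a D r = true := by
  unfold okr
  simp only
  rw [pp_eq hr 80 a ha0 ha, List.any_eq_true]
  refine ⟨j, List.mem_range.2 ?_, bandI (beqI (Nat.mod_eq_zero_of_dvd hj)) (beqI hj2)⟩
  by_contra hcon
  push Not at hcon
  have h9 : 2 ^ 8 ≤ r ^ j :=
    (Nat.pow_le_pow_left hr.two_le 8).trans (Nat.pow_le_pow_right hr.pos hcon)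
  have h10 := Nat.le_of_dvd (Nat.pos_of_ne_zero hD) hj
  norm_num at h9
  omega

/-- `Co₃` has no subgroup of the order of `M₂₄` -/
theorem no_m24 (OT : OrdDiv.OrderTable.{u})
    (hS : ∀ (X : Type u) [Group X] [Finite X] [IsSimpleGroup X], Cfsg.IsKnownSimple' X)
    {T : Type u} [Group T] (h : Cfsg.Spor.IsoCo3 T) (H : Subgroup T) (hH : Nat.card H = 244823040) : False := by
  have hfin := finite_co3 h
  have hp11 : Fact (Nat.Prime 11) := ⟨by norm_num⟩
  obtain ⟨x, hx⟩ := exists_prime_orderOf_dvd_card' (G := H) 11 (by rw [hH]; norm_num)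
  have hP : Nat.card (zpowers x) = 11 := by rw [Nat.card_zpowers, hx]
  have hPT : Nat.card ((zpowers x).map H.subtype) = 11 := by
    rw [← hP]
    exact (Nat.card_congr ((zpowers x).equivMapOfInjective _ H.subtype_injective).toEquiv).symm
  obtain ⟨a, s, c, m, D, h1, h2, h3, h4, h5, h6⟩ := Cfsg.Agent.H970.StabK.exists_struct hP (by rw [hH]; norm_num)
  have hnH : (normalizer ((zpowers x : Subgroup H) : Set H)).map H.subtype ≤
      normalizer (((zpowers x).map H.subtype : Subgroup T) : Set T) :=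
    Subgroup.le_normalizer_map (H := zpowers x) H.subtype
  have hnc : Nat.card ((normalizer ((zpowers x : Subgroup H) : Set H)).map H.subtype) =
      Nat.card (normalizer ((zpowers x : Subgroup H) : Set H)) :=
    (Nat.card_congr (Subgroup.equivMapOfInjective _ H.subtype H.subtype_injective).toEquiv).symm
  have h7 := Subgroup.card_dvd_of_le hnH
  rw [hnc, n11 h _ hPT, h3] at h7
  have h8 : c * D * m ∣ 10 := by
    have h9 : 11 * (c * D * m) ∣ 11 * 10 := by
      have : c * D * (11 * m) = 11 * (c * D * m) := by ring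
      rwa [this] at h7
    exact Nat.dvd_of_mul_dvd_mul_left (by norm_num) h9
  rw [hH] at h1
  have ha0 : a ≠ 0 := by rintro rfl; simp at h1
  have hs0 : s ≠ 0 := by rintro rfl; simp at h1
  have hc0 : c ≠ 0 := by rintro rfl; simp at h1
  have hcD : c * D ∣ 10 := (Dvd.intro m rfl).trans h8
  have hD0 : D ≠ 0 := by rintro rfl; simp at hcD
  have hc10 : c ≤ 10 := Nat.le_of_dvd (by norm_num) ((Dvd.intro D rfl).trans hcD)
  have hD10 : D ≤ 10 := Nat.le_of_dvd (by norm_num) ((Dvd.intro_left c rfl).trans hcD)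
  have hale : a ≤ 244823040 := Nat.le_of_dvd (by norm_num) (by rw [h1, mul_assoc]; exact Dvd.intro _ rfl)
  have hv : OrdDiv.valid fM24 244823040 = true := by decide +kernel
  have hsmem : s ∈ 11 :: tM24 := by
    rcases h6 with ⟨rfl, -⟩ | ⟨K, _, _, hK, hna, hKs, _⟩
    · exact List.mem_cons_self
    · refine List.mem_cons_of_mem _ ?_
      rw [← hKs]
      refine mem_tbl OT hS hv (by decide +kernel) K hK hna ?_
      rw [hKs, h1]
      exact ⟨a * c, by ring⟩
  have e1 : 244823040 / c / s = a := by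
    rw [h1, Nat.mul_div_cancel _ (Nat.pos_of_ne_zero hc0), Nat.mul_div_cancel _ (Nat.pos_of_ne_zero hs0)]
  have key := chkM_ok
  unfold chkM at key
  rw [List.all_eq_true] at key
  have key1 := key s hsmem
  rw [List.all_eq_true] at key1
  have key2 := key1 c (List.mem_range.2 (by omega))
  rw [List.all_eq_true] at key2
  have key3 := key2 D (List.mem_range.2 (by omega))
  rw [e1] at key3
  have hcond : (Nat.blt 0 c && (Nat.blt 0 D && (10 % (c * D) == 0 && (244823040 % (s * c) == 0 &&
      [2, 3, 5].all (okr 11 a D))))) = true := by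
    refine bandI (by rw [Nat.blt_eq]; omega) (bandI (by rw [Nat.blt_eq]; omega)
      (bandI (beqI (Nat.mod_eq_zero_of_dvd hcD)) (bandI (beqI (Nat.mod_eq_zero_of_dvd ?_)) ?_)))
    · rw [h1]; exact ⟨a, by ring⟩
    · rw [List.all_eq_true]
      intro r hr
      have hr1 : r.Prime := by
        simp only [List.mem_cons, List.not_mem_nil, or_false] at hr
        rcases hr with rfl | rfl | rfl <;> norm_num
      obtain ⟨j, hj1, hj2⟩ := h5 r hr1
      exact okr_of hr1 ha0 (by omega) hD0 (by omega) hj1 hj2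
  rw [hcond, Bool.not_true, Bool.false_or, Bool.and_eq_true, beq_iff_eq, beq_iff_eq] at key3
  obtain ⟨rfl, rfl⟩ := key3
  have ha1 : a = 1 := by omega
  rcases h6 with ⟨h6, -⟩ | ⟨K, _, _, hK, hna, hKs, -, hm2, hmd, hmm, he⟩
  · omega
  obtain ⟨e⟩ := he ha1 rfl
  -- `m = 10`
  have hm10 : m ∣ 10 := (Dvd.intro_left (1 * D) rfl).trans h8
  have hmle : m ≤ 10 := Nat.le_of_dvd (by norm_num) hm10
  have hm : m = 10 := by
    interval_cases m <;> first | rfl | (exfalso; revert hmm hm10; decide)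
  subst hm
  have hD1 : D = 1 := by
    have h9 : D ∣ 1 := Nat.dvd_of_mul_dvd_mul_right (by norm_num : 0 < 10) (by simpa using h8)
    exact Nat.dvd_one.1 h9
  subst hD1
  have hneq : (normalizer ((zpowers x : Subgroup H) : Set H)).map H.subtype =
      normalizer (((zpowers x).map H.subtype : Subgroup T) : Set T) :=
    Subgroup.eq_of_le_of_card_ge hnH (by rw [hnc, h3, n11 h _ hPT])
  -- the involution
  have hp2 : Fact (Nat.Prime 2) := ⟨Nat.prime_two⟩
  obtain ⟨t, ht⟩ := exists_prime_orderOf_dvd_card' (G := centralizer (((zpowers x).map H.subtype : Subgroup T) : Set T))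
    2 (by rw [c11 h _ hPT]; norm_num)
  have htN : (t : T) ∈ (normalizer ((zpowers x : Subgroup H) : Set H)).map H.subtype := by
    rw [hneq]; exact centralizer_le_normalizer _ t.2
  obtain ⟨t', -, htt⟩ := htN
  have htt' : (t' : T) = t := htt
  have hcomm : t' * x = x * t' := by
    apply Subtype.ext
    have h9 := mem_centralizer_iff.1 t.2 (x : T) ⟨x, mem_zpowers x, rfl⟩
    rw [Subgroup.coe_mul, Subgroup.coe_mul, htt']
    exact h9.symm
  have ht2 : orderOf t' = 2 := by
    rw [← Subgroup.orderOf_coe, htt', Subgroup.orderOf_coe, ht]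
  -- `K` is `M₂₄`
  have := hK
  obtain ⟨g, hg, hgr⟩ := OrdDiv.exists_real_filter OT (hS K) hna hv (by rw [hKs]) (fun o => o == 244823040)
    (by rw [hKs]; rfl)
  rw [candM, List.mem_singleton] at hg
  subst hg
  obtain ⟨f⟩ : Cfsg.Spor.IsoM24 K := hgr
  let φ : H ≃* Cfsg.M24 := e.trans f
  have h10 := Cfsg.Agent.CpAutJ4.Eleven.eq_one (x := (φ x : Equiv.Perm Cfsg.GolayPt)) (t := (φ t' : Equiv.Perm Cfsg.GolayPt))
    (φ x).2 (by rw [Subgroup.orderOf_coe, MulEquiv.orderOf_eq, hx]) (φ t').2
    (by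
      rw [← Subgroup.coe_mul, ← map_mul]
      have : t' * t' = 1 := by rw [← pow_two, ← ht2, pow_orderOf_eq_one]
      rw [this, map_one]; rfl)
    (by rw [← Subgroup.coe_mul, ← Subgroup.coe_mul, ← map_mul, ← map_mul, hcomm])
  have h11 : t' = 1 := by
    apply φ.injective
    rw [map_one]
    exact Subtype.ext h10
  rw [h11, orderOf_one] at ht2
  omega

/-- the factorization of `|Co₃|` -/
def fCo3 : List (ℕ × ℕ) := [(2, 10), (3, 7), (5, 3), (7, 1), (11, 1), (23, 1)]

def tCo3 : List ℕ := [60, 168, 360, 504, 660, 2520, 6048, 6072, 7920, 20160, 25920, 95040, 126000, 181440, 443520, 604800,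
  1451520, 1814400, 3265920, 10200960, 13685760, 19958400, 44352000, 239500800, 244823040, 898128000, 495766656000]

theorem surv {k m : ℕ} (h : (k = 6 ∧ m = 36) ∨ (k = 18 ∧ m = 36) ∨ (k = 54 ∧ m = 162) ∨ (k = 162 ∧ m = 162)) {n : ℕ}
    (hn : n ∈ survives 495766656000 1 [1] fCo3 [(7, k, m), (11, 2, 10), (23, 1, 11)] [2, 3, 5] tCo3) :
    n = 276 ∨ n = 2025 := by
  have key : ∀ l : List ℕ, (l.all fun x => x == 276 || x == 2025) = true → n ∈ l → n = 276 ∨ n = 2025 := by
    intro l hl hnl
    have h1 := (List.all_eq_true.1 hl) n hnl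
    rw [Bool.or_eq_true, beq_iff_eq, beq_iff_eq] at h1
    exact h1
  rcases h with ⟨rfl, rfl⟩ | ⟨rfl, rfl⟩ | ⟨rfl, rfl⟩ | ⟨rfl, rfl⟩
  · exact key _ (by decide +kernel) hn
  · exact key _ (by decide +kernel) hn
  · exact key _ (by decide +kernel) hn
  · exact key _ (by decide +kernel) hn

variable {G : Type u} {Ω : Type v} [Group G] [MulAction G Ω] {T : Subgroup G}

/-- **The row `Co₃`.** -/
theorem co3 (OT : OrdDiv.OrderTable.{u})
    (hS : ∀ (X : Type u) [Group X] [Finite X] [IsSimpleGroup X], Cfsg.IsKnownSimple' X)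
    (A : AS G Ω T) (h : Cfsg.Spor.IsoCo3 T) : Known2 T (Nat.card Ω) := by
  have hc := card_co3 h
  have hv : OrdDiv.valid fCo3 495766656000 = true := by decide +kernel
  obtain ⟨k, m, hkm, h7⟩ := cn7 h
  have hkm2 : 0 < k ∧ k < 256 ∧ 0 < m := by omega
  have hD : Data ↥T [(7, k, m), (11, 2, 10), (23, 1, 11)] [2, 3, 5] tCo3 := by
    refine ⟨A.finT, by rw [hc]; norm_num, ?_, ?_, ?_, ?_⟩
    · intro x hx
      rw [hc]
      simp only [List.mem_cons, List.not_mem_nil, or_false] at hx
      rcases hx with rfl | rfl | rfl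
      · exact ⟨by norm_num, by norm_num, hkm2.1, hkm2.2.1, hkm2.2.2⟩
      · norm_num
      · norm_num
    · intro x hx
      simp only [List.mem_cons, List.not_mem_nil, or_false] at hx
      rcases hx with rfl | rfl | rfl
      · intro P hP
        obtain ⟨h1, h2⟩ := h7 P hP
        exact ⟨by rw [h1], by rw [h2]⟩
      · intro P hP
        exact ⟨by rw [c11 h P hP]; norm_num, by rw [n11 h P hP]; norm_num⟩
      · intro P hP
        exact ⟨by rw [c23 h P hP]; norm_num, by rw [n23 h P hP]⟩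
    · intro r hr
      simp only [List.mem_cons, List.not_mem_nil, or_false] at hr
      rcases hr with rfl | rfl | rfl <;> norm_num
    · intro K _ _ hK hna hd
      rw [hc] at hd
      exact mem_tbl OT hS hv (by decide +kernel) K hK hna hd
  have h1 := mem_survives A (N := 495766656000) (out := 1) (js := [1]) (l := fCo3) hc
    (card_dvd A (by rw [range_conj h, Subgroup.index_top])) (by
      intro j hj
      rw [Nat.dvd_one] at hj
      simp [hj]) hv hD
  rcases surv hkm h1 with h2 | h2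
  · rw [h2]; exact Known2.co3 h
  · exfalso
    obtain ⟨a⟩ : Nonempty Ω := by have := A.nontrivialΩ; infer_instance
    have h3 := A.card_mul a
    rw [h2, hc] at h3
    exact no_m24 OT hS h (MulAction.stabilizer T a) (by omega)

end Cfsg.Agent.H555.TwoSp
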