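import Cfsg.Agent.H970.TwoSporBase
import Cfsg.Agent.H898.J3Cent
import Cfsg.Agent.CpAutJThree.Row

/-!
# HUB H1, part P11, the row `J₃` (helper555)
-/

set_option autoImplicit false

namespace Cfsg.Agent.H555.TwoSp

open Subgroup Cfsg.Agent.H384.TwoTrans Cfsg.Agent.H970.StabNum Cfsg.Agent.H970.TwoSpor

universe u v

/-- the centralizer and the normalizer of a subgroup of prime order from those of its generators -/
theorem cent_of_orderOf {T : Type u} [Group T] {p c n : ℕ} (hp : p.Prime)
    (h : ∀ y : T, orderOf y = p → Nat.card ↥(centralizer ({y} : Set T)) ∣ c ∧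
      Nat.card ↥(normalizer ((zpowers y : Subgroup T) : Set T)) ∣ n)
    (P : Subgroup T) (hP : Nat.card P = p) :
    Nat.card (centralizer (P : Set T)) ∣ c ∧ Nat.card (normalizer (P : Set T)) ∣ n := by
  have hfin : Finite P := Nat.finite_of_card_ne_zero (by rw [hP]; exact hp.ne_zero)
  have hpF : Fact p.Prime := ⟨hp⟩
  obtain ⟨x, hx⟩ := exists_prime_orderOf_dvd_card' (G := P) p (by rw [hP])
  have hx' : orderOf (x : T) = p := by rw [orderOf_coe, hx]
  have hle : zpowers (x : T) ≤ P := by rw [zpowers_le]; exact x.2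
  have heq : zpowers (x : T) = P :=
    Subgroup.eq_of_le_of_card_ge hle (by rw [hP, Nat.card_zpowers, hx'])
  obtain ⟨h1, h2⟩ := h x hx'
  rw [heq] at h2
  refine ⟨?_, h2⟩
  have h3 : centralizer (P : Set T) = centralizer ({(x : T)} : Set T) := by
    have h5 : centralizer (P : Set T) = centralizer ((zpowers (x : T) : Subgroup T) : Set T) := by rw [heq]
    rw [h5]
    apply le_antisymm
    · exact centralizer_le (by
        intro y hy
        rw [Set.mem_singleton_iff] at hy
        rw [hy]; exact mem_zpowers _)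
    · intro y hy
      rw [mem_centralizer_iff]
      rintro z ⟨k, rfl⟩
      have h4 : y * (x : T) = (x : T) * y := mem_centralizer_singleton_iff.mp hy
      exact ((Commute.zpow_right (show Commute y (x : T) from h4) k).eq).symm
  rw [h3]
  exact h1

variable {G : Type u} {Ω : Type v} [Group G] [MulAction G Ω] {T : Subgroup G}

/-- the factorization of `|J₃|` -/
def fJ3 : List (ℕ × ℕ) := [(2, 7), (3, 5), (5, 1), (17, 1), (19, 1)]

def tJ3 : List ℕ := [60, 360, 2448, 3420, 4080, 25920, 50232960]

theorem j3 (OT : OrdDiv.OrderTable.{u})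
    (hS : ∀ (X : Type u) [Group X] [Finite X] [IsSimpleGroup X], Cfsg.IsKnownSimple' X)
    (A : AS G Ω T) (h : Cfsg.Spor.IsoJ3 T) : Known2 T (Nat.card Ω) := by
  exfalso
  obtain ⟨hc, -, -, hout⟩ := Cfsg.Agent.CpAutJThree.base h
  have hv : OrdDiv.valid fJ3 50232960 = true := by decide +kernel
  have hD : Data ↥T [(17, 1, 8), (19, 1, 9)] [2, 3, 5] tJ3 := by
    refine ⟨A.finT, by rw [hc]; norm_num, ?_, ?_, ?_, ?_⟩
    · intro x hx
      rw [hc]
      simp only [List.mem_cons, List.not_mem_nil, or_false] at hx
      rcases hx with rfl | rfl <;> norm_num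
    · intro x hx
      simp only [List.mem_cons, List.not_mem_nil, or_false] at hx
      rcases hx with rfl | rfl
      · intro P hP
        refine cent_of_orderOf (by norm_num) (fun y hy => ?_) P hP
        obtain ⟨h1, h2⟩ := Cfsg.Agent.H898.J3Cent.seventeen h hy
        exact ⟨by rw [h1]; norm_num, by rw [h2]⟩
      · intro P hP
        refine cent_of_orderOf (by norm_num) (fun y hy => ?_) P hP
        exact ⟨by rw [Cfsg.Agent.H898.J3Cent.card_nineteen h hy]; norm_num,
          by rw [Cfsg.Agent.H898.J3Cent.card_normalizer_nineteen h hy]⟩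
    · intro r hr
      simp only [List.mem_cons, List.not_mem_nil, or_false] at hr
      rcases hr with rfl | rfl | rfl <;> norm_num
    · intro K _ _ hK hna hd
      rw [hc] at hd
      exact mem_tbl OT hS hv (by decide +kernel) K hK hna hd
  have h1 := mem_survives A (N := 50232960) (out := 2) (js := [1, 2]) (l := fJ3) hc
    (card_dvd A (by rcases hout with h | h <;> rw [h]; norm_num)) (by
      intro j hj
      rcases (Nat.dvd_prime Nat.prime_two).mp hj with h | h
      · simp [h]
      · simp [h]) hv hD
  have h2 : survives 50232960 2 [1, 2] fJ3 [(17, 1, 8), (19, 1, 9)] [2, 3, 5] tJ3 = [] := by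
    decide +kernel
  rw [h2] at h1
  exact absurd h1 List.not_mem_nil

end Cfsg.Agent.H555.TwoSp
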